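import Groth.Agent.Sga3B.MT.MemAt
import Groth.Agent.Sga3B.MT.TorusFam
import Groth.Agent.Sga3B.Parab.EtHom
import Groth.Agent.Sga3B.AlgBc2
import Groth.Prelude.Def_SGA3x

/-!
# Subgroup schemes over a disjoint union of base schemes

`G` a group scheme over `∐ X_j`, `t_j : T_j ⟶ bc (ι_j) G` monomorphic homomorphisms over `X_j`.  Then there is a
subgroup scheme `p : P ⟶ G` over `∐ X_j` whose base change to `X_j` is `t_j`.  Also the version with `G` replaced by
`bc (Sigma.desc v) G` for a family `v_j : X_j ⟶ S`, and the consequence for maximal tori: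
maximal tori exist étale locally (`SGA3x.HasMaxTorusEtaleLocally`) as soon as every point of `S` is in the image
of an étale morphism over which a maximal torus exists.
-/

set_option autoImplicit false

universe u

open CategoryTheory MonoidalCategory CartesianMonoidalCategory MonObj GrpObj AlgebraicGeometry Limits

namespace Groth.Agent.Sga3.H795.DisjGrp

open Groth.Agent.Sga3B Groth.Agent.Sga3B.BcPts Groth.Agent.Sga3B.Parab Groth.Agent.Sga3B.MT
  Groth.Agent.Sga3B.RedIso Groth.Agent.Sga3C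

noncomputable section

variable {J : Type u} {X : J → Scheme.{u}} {G : Over (∐ X)} {T : ∀ j, Over (X j)}

/-- The disjoint union of the `T_j`, over `∐ X_j`. -/
def tot (T : ∀ j, Over (X j)) : Over (∐ X) :=
  Over.mk (Sigma.desc fun j => (T j).hom ≫ Sigma.ι X j : (∐ fun j => (T j).left) ⟶ ∐ X)

/-- the inclusion of a piece -/
def inc (T : ∀ j, Over (X j)) (j : J) : (T j).left ⟶ (tot T).left := Sigma.ι (fun j => (T j).left) j

/-- morphisms out of the total space -/
def totDesc (T : ∀ j, Over (X j)) {Z : Scheme.{u}} (f : ∀ j, (T j).left ⟶ Z) : (tot T).left ⟶ Z :=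
  (Sigma.desc f : (∐ fun j => (T j).left) ⟶ Z)

lemma inc_totDesc (T : ∀ j, Over (X j)) {Z : Scheme.{u}} (f : ∀ j, (T j).left ⟶ Z) (j : J) :
    inc T j ≫ totDesc T f = f j := Sigma.ι_desc _ _

lemma inc_hom (T : ∀ j, Over (X j)) (j : J) : inc T j ≫ (tot T).hom = (T j).hom ≫ Sigma.ι X j :=
  Sigma.ι_desc _ _

lemma tot_hom_ext {T : ∀ j, Over (X j)} {Z : Scheme.{u}} {f g : (tot T).left ⟶ Z}
    (h : ∀ j, inc T j ≫ f = inc T j ≫ g) : f = g := Sigma.hom_ext _ _ h

instance (T : ∀ j, Over (X j)) (j : J) : IsOpenImmersion (inc T j) :=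
  inferInstanceAs (IsOpenImmersion (Sigma.ι (fun j => (T j).left) j))

/-- the pieces are the base changes -/
theorem isPullback_inc (T : ∀ j, Over (X j)) (j : J) :
    IsPullback (T j).hom (inc T j) (Sigma.ι X j) (tot T).hom := by
  refine IsOpenImmersion.isPullback _ _ _ _ (inc_hom T j) ?_
  ext y
  constructor
  · rintro ⟨x, hx⟩
    obtain ⟨i, y, rfl⟩ : ∃ (i : J) (z : (T i).left), inc T i z = y := by
      obtain ⟨⟨i, z⟩, rfl⟩ := (sigmaMk (fun j => (T j).left)).surjective y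
      exact ⟨i, z, (sigmaMk_mk _ _ _).symm⟩
    have h1 : (tot T).hom (inc T i y) = Sigma.ι X i ((T i).hom y) := by
      rw [← Scheme.Hom.comp_apply, inc_hom, Scheme.Hom.comp_apply]
    have h2 := hx.trans h1
    rw [sigmaι_eq_iff] at h2
    obtain rfl : j = i := congrArg Sigma.fst h2
    exact ⟨y, rfl⟩
  · rintro ⟨x, rfl⟩
    refine ⟨(T j).hom x, ?_⟩
    rw [← Scheme.Hom.comp_apply, ← inc_hom, Scheme.Hom.comp_apply]

/-- The morphism `∐ T_j ⟶ G` defined by the `t_j`. -/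
def totHom (t : ∀ j, T j ⟶ Red.bc (Sigma.ι X j) G) : tot T ⟶ G :=
  Over.homMk (totDesc T fun j => (t j).left ≫ pullback.fst G.hom (Sigma.ι X j)) (by
    apply tot_hom_ext
    intro j
    rw [← Category.assoc, inc_totDesc, Category.assoc, pullback.condition, inc_hom, ← Over.w (t j),
      Category.assoc]
    rfl)

lemma inc_totHom (t : ∀ j, T j ⟶ Red.bc (Sigma.ι X j) G) (j : J) :
    inc T j ≫ (totHom t).left = (t j).left ≫ pullback.fst G.hom (Sigma.ι X j) := inc_totDesc T _ _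

/-- Lifting a point of the total space lying over `X_j`. -/
lemma exists_lift_piece {Y : Scheme.{u}} (x : Y ⟶ (tot T).left) (j : J) (a : Y ⟶ X j)
    (h : x ≫ (tot T).hom = a ≫ Sigma.ι X j) :
    ∃ z : Y ⟶ (T j).left, z ≫ inc T j = x ∧ z ≫ (T j).hom = a :=
  ⟨(isPullback_inc T j).lift a x h.symm, (isPullback_inc T j).lift_snd _ _ _,
    (isPullback_inc T j).lift_fst _ _ _⟩

lemma bcPt_left_fst {j : J} {Y : Over (∐ X)} (a : Y ⟶ Over.mk (Sigma.ι X j)) (g : Y ⟶ G) :
    (bcPt a g).left ≫ pullback.fst G.hom (Sigma.ι X j) = g.left := by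
  have h := (bcEquiv (Sigma.ι X j) (Over.mk a.left) G).symm_apply_apply ((overIso a).hom ≫ g)
  have h2 : ((bcEquiv (Sigma.ι X j) (Over.mk a.left) G).symm (bcPt a g)).left =
      (bcPt a g).left ≫ pullback.fst G.hom (Sigma.ι X j) := by
    simp [BcPts.bcEquiv, Adjunction.homEquiv_counit]
  rw [← h2]
  change ((bcEquiv (Sigma.ι X j) (Over.mk a.left) G).symm
    (bcEquiv (Sigma.ι X j) (Over.mk a.left) G ((overIso a).hom ≫ g))).left = _
  rw [h]
  simp [overIso]

section

variable (t : ∀ j, T j ⟶ Red.bc (Sigma.ι X j) G)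

/-- the condition on points of `G` defined by the family -/
def Cond (Y : Over (∐ X)) (g : Y ⟶ G) : Prop :=
  ∀ (j : J) (Y' : Over (∐ X)) (h : Y' ⟶ Y) (a : Y' ⟶ Over.mk (Sigma.ι X j)), MemAt (t j) a (h ≫ g)

/-- a point of `tot T` gives, over `X_j`, a point of `T_j` -/
lemma memAt_of_tot {Y : Over (∐ X)} (x : Y ⟶ tot T) {j : J} (a : Y ⟶ Over.mk (Sigma.ι X j)) :
    ∃ z : Over.mk a.left ⟶ T j, z.left ≫ inc T j = x.left ∧ z ≫ t j = bcPt a (x ≫ totHom t) := by
  obtain ⟨z, hz1, hz2⟩ := exists_lift_piece (T := T) x.left j a.left (by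
    rw [Over.w x]
    exact (Over.w a).symm)
  refine ⟨Over.homMk z hz2, hz1, ?_⟩
  ext1
  apply pullback.hom_ext
  · rw [bcPt_left_fst, Over.comp_left, Category.assoc]
    change z ≫ (t j).left ≫ _ = (x ≫ totHom t).left
    rw [← inc_totHom, ← Category.assoc, hz1]
    rfl
  · have h1 := Over.w ((Over.homMk z hz2 : Over.mk a.left ⟶ T j) ≫ t j)
    have h2 := Over.w (bcPt a (x ≫ totHom t))
    exact h1.trans h2.symm

/-- The open covering of a scheme over `∐ X_j` by its pieces. -/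
def cov (Y : Over (∐ X)) : Scheme.OpenCover.{u} Y.left := (sigmaOpenCover X).pullback₁ Y.hom

/-- the pieces as objects -/
def covObj (Y : Over (∐ X)) (j : J) : Over (∐ X) := Over.mk (pullback.fst Y.hom (Sigma.ι X j) ≫ Y.hom)

def covMap (Y : Over (∐ X)) (j : J) : covObj Y j ⟶ Y := Over.homMk (pullback.fst Y.hom (Sigma.ι X j))

def covPr (Y : Over (∐ X)) (j : J) : covObj Y j ⟶ Over.mk (Sigma.ι X j) :=
  Over.homMk (pullback.snd Y.hom (Sigma.ι X j)) pullback.condition.symm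

lemma cov_hom_ext {Y : Over (∐ X)} {Z : Scheme.{u}} {f g : Y.left ⟶ Z}
    (h : ∀ j, (covMap Y j).left ≫ f = (covMap Y j).left ≫ g) : f = g :=
  (cov Y).hom_ext _ _ h

theorem mono_totHom [∀ j, Mono (t j)] : Mono (totHom t) := by
  constructor
  intro Y x y hxy
  ext1
  apply cov_hom_ext
  intro j
  obtain ⟨z, hz1, hz2⟩ := memAt_of_tot t (covMap Y j ≫ x) (covPr Y j)
  obtain ⟨w, hw1, hw2⟩ := memAt_of_tot t (covMap Y j ≫ y) (covPr Y j)
  have h1 : z ≫ t j = w ≫ t j := by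
    rw [hz2, hw2, Category.assoc, Category.assoc, hxy]
  rw [cancel_mono] at h1
  change (covMap Y j ≫ x).left = (covMap Y j ≫ y).left
  rw [← hz1, ← hw1, h1]

theorem cond_iff [∀ j, Mono (t j)] {Y : Over (∐ X)} (g : Y ⟶ G) :
    (∃ x : Y ⟶ tot T, x ≫ totHom t = g) ↔ Cond t Y g := by
  have hm := mono_totHom t
  have hml : Mono (totHom t).left := inferInstance
  constructor
  · rintro ⟨x, rfl⟩ j Y' h a
    obtain ⟨z, hz1, hz2⟩ := memAt_of_tot t (h ≫ x) a
    rw [memAt_iff]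
    refine ⟨z, ?_⟩
    rw [hz2, Category.assoc]
  · intro H
    have key : ∀ j, ∃ x : (covObj Y j).left ⟶ (tot T).left, x ≫ (totHom t).left = (covMap Y j).left ≫ g.left := by
      intro j
      obtain ⟨z, hz⟩ := (memAt_iff _ _ _).1 (H j _ (covMap Y j) (covPr Y j))
      refine ⟨z.left ≫ inc T j, ?_⟩
      rw [Category.assoc, inc_totHom, ← Category.assoc, ← Over.comp_left, hz, bcPt_left_fst]
      rfl
    choose x hx using key
    let x' : ∀ i : (cov Y).I₀, (cov Y).X i ⟶ (tot T).left := fun i => x i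
    have hx' : ∀ i : (cov Y).I₀, x' i ≫ (totHom t).left = (cov Y).f i ≫ g.left := fun i => hx i
    let F : Y.left ⟶ (tot T).left := (cov Y).glueMorphisms x' (fun i j => by
      rw [← cancel_mono (totHom t).left, Category.assoc, Category.assoc, hx', hx', ← Category.assoc,
        ← Category.assoc, pullback.condition])
    have hF : F ≫ (totHom t).left = g.left := by
      refine Scheme.Cover.hom_ext (cov Y) _ _ fun i => ?_
      rw [← Category.assoc, Scheme.Cover.ι_glueMorphisms, hx']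
    refine ⟨Over.homMk F ?_, ?_⟩
    · rw [← Over.w g, ← hF, Category.assoc, Over.w]
    · ext1
      exact hF

/-- **Subgroup schemes over a disjoint union of bases.** -/
theorem exists_subgroup [GrpObj G] [∀ j, GrpObj (T j)] [∀ j, IsMonHom (t j)] [∀ j, Mono (t j)] :
    ∃ (P : Over (∐ X)) (_ : GrpObj P) (p : P ⟶ G), IsMonHom p ∧ Mono p ∧
      ∀ j, ∃ e : Grp.mk (T j) ≅ Grp.mk (Red.bc (Sigma.ι X j) P),
        (und e).hom ≫ (Over.pullback (Sigma.ι X j)).map p = t j := by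
  have hm := mono_totHom t
  have H := @cond_iff J X G T t _
  obtain ⟨hG, hmon⟩ := ClosedSub.exists_grpObj_of_mono (totHom t)
    ((H _).2 (by
      rw [one_eq_one]
      intro j Y' h a
      rw [MonObj.comp_one]
      exact MemAt.one a))
    ((H _).2 (by
      have h1 : (totHom t ⊗ₘ totHom t) ≫ μ[G] = (fst _ _ ≫ totHom t) * (snd _ _ ≫ totHom t) := by
        rw [Hom.mul_def]
        congr 1
      rw [h1]
      intro j Y' h a
      rw [MonObj.comp_mul]
      exact ((H _).1 ⟨_, rfl⟩ j Y' h a).mul ((H _).1 ⟨_, rfl⟩ j Y' h a)))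
    ((H _).2 (by
      have h1 : totHom t ≫ ι[G] = (totHom t)⁻¹ := rfl
      rw [h1]
      intro j Y' h a
      rw [GrpObj.comp_inv]
      exact ((H _).1 ⟨𝟙 _, by simp⟩ j Y' h a).inv))
  refine ⟨tot T, hG, totHom t, hmon, hm, fun j => ?_⟩
  have hover : ∀ (Y : Over (X j)) (g : Y ⟶ Red.bc (Sigma.ι X j) G),
      (∃ x : Y ⟶ T j, x ≫ t j = g) ↔
        Cond t ((Over.map (Sigma.ι X j)).obj Y) ((bcEquiv (Sigma.ι X j) Y G).symm g) := by
    intro Y g
    rw [← MemAt.iff_of_over]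
    constructor
    · intro K i Y' h a
      have h2 := K.comp h
      by_cases hij : j = i
      · subst hij
        have : a = h ≫ MemAt.strHom (Sigma.ι X j) Y := by
          ext1
          rw [← cancel_mono (Sigma.ι X j)]
          exact (Over.w a).trans (Over.w (h ≫ MemAt.strHom (Sigma.ι X j) Y)).symm
        rw [this]
        exact h2
      · let a₁ : Y'.left ⟶ X j := (h ≫ MemAt.strHom (Sigma.ι X j) Y).left
        let a₂ : Y'.left ⟶ X i := a.left
        have hw : a₁ ≫ Sigma.ι X j = a₂ ≫ Sigma.ι X i :=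
          (Over.w (h ≫ MemAt.strHom (Sigma.ι X j) Y)).trans (Over.w a).symm
        have hemp : IsEmpty Y'.left := isEmpty_of_commSq_sigmaι_of_ne (g := X) ⟨hw⟩ hij
        let hinit : IsInitial Y'.left := isInitialOfIsEmpty
        rw [memAt_iff]
        refine ⟨Over.homMk (hinit.to _) (hinit.hom_ext _ _), ?_⟩
        ext1
        exact hinit.hom_ext _ _
    · intro K
      have := K j _ (𝟙 _) (MemAt.strHom (Sigma.ι X j) Y)
      rwa [Category.id_comp] at this
  have key : ∀ (Y : Over (X j)) (g : Y ⟶ Red.bc (Sigma.ι X j) G),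
      (∃ x : Y ⟶ T j, x ≫ t j = g) ↔ ∃ x : Y ⟶ Red.bc (Sigma.ι X j) (tot T),
        x ≫ (Over.pullback (Sigma.ι X j)).map (totHom t) = g := by
    intro Y g
    rw [hover, ← H]
    constructor
    · rintro ⟨x, hx⟩
      exact ⟨bcEquiv (Sigma.ι X j) Y (tot T) x, by rw [← bcEquiv_comp, hx, Equiv.apply_symm_apply]⟩
    · rintro ⟨x, hx⟩
      exact ⟨(bcEquiv (Sigma.ι X j) Y (tot T)).symm x, by rw [← bcEquiv_symm_comp, hx]⟩
  have hm' : Mono ((Over.pullback (Sigma.ι X j)).map (totHom t)) := inferInstance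
  obtain ⟨u, hu⟩ := (key (T j) (t j)).1 ⟨𝟙 _, Category.id_comp _⟩
  obtain ⟨v, hv⟩ := (key (Red.bc (Sigma.ι X j) (tot T)) ((Over.pullback (Sigma.ι X j)).map (totHom t))).2
    ⟨𝟙 _, Category.id_comp _⟩
  have huv : u ≫ v = 𝟙 _ := by rw [← cancel_mono (t j), Category.assoc, hv, hu, Category.id_comp]
  have hvu : v ≫ u = 𝟙 _ := by
    rw [← cancel_mono ((Over.pullback (Sigma.ι X j)).map (totHom t)), Category.assoc, hu, hv, Category.id_comp]
  let e : T j ≅ Red.bc (Sigma.ι X j) (tot T) := ⟨u, v, huv, hvu⟩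
  have hmonu : IsMonHom u := Pts.isMonHom_of_points u fun Y x y => by
    rw [← cancel_mono ((Over.pullback (Sigma.ι X j)).map (totHom t))]
    simp only [Category.assoc, hu, MonObj.mul_comp]
  have : IsMonHom e.hom := hmonu
  exact ⟨Grp.mkIso' e, hu⟩

end

/-- Subgroup schemes over a disjoint union of bases, for a family `v_j : X_j ⟶ S` and a group scheme over `S`. -/
theorem exists_subgroup_family {S : Scheme.{u}} {G : Over S} [GrpObj G] {X : J → Scheme.{u}}
    (v : ∀ j, X j ⟶ S) {T : ∀ j, Over (X j)} [∀ j, GrpObj (T j)] (t : ∀ j, T j ⟶ Red.bc (v j) G)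
    (h1 : ∀ j, IsMonHom (t j)) (h2 : ∀ j, Mono (t j)) :
    ∃ (P : Over (∐ X)) (_ : GrpObj P) (p : P ⟶ Red.bc (Sigma.desc v) G), IsMonHom p ∧ Mono p ∧
      ∀ j, ∃ (e : Grp.mk (T j) ≅ Grp.mk (Red.bc (Sigma.ι X j) P))
        (ψ : Grp.mk (Red.bc (v j) G) ≅ Grp.mk (Red.bc (Sigma.ι X j) (Red.bc (Sigma.desc v) G))),
        (und e).hom ≫ (Over.pullback (Sigma.ι X j)).map p = t j ≫ (und ψ).hom := by
  let ψ : ∀ j, Grp.mk (Red.bc (v j) G) ≅ Grp.mk (Red.bc (Sigma.ι X j) (Red.bc (Sigma.desc v) G)) := fun j =>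
    BcIso.bcCongrIso (Sigma.ι_desc v j).symm G ≪≫ BcIso.bcCompIso (Sigma.ι X j) (Sigma.desc v) G
  let t' : ∀ j, T j ⟶ Red.bc (Sigma.ι X j) (Red.bc (Sigma.desc v) G) := fun j => t j ≫ (und (ψ j)).hom
  have h1' : ∀ j, IsMonHom (t' j) := fun j => by
    have := h1 j
    exact inferInstanceAs (IsMonHom (t j ≫ (und (ψ j)).hom))
  have h2' : ∀ j, Mono (t' j) := fun j => by
    have := h2 j
    exact inferInstanceAs (Mono (t j ≫ (und (ψ j)).hom))
  obtain ⟨P, i1, p, hp1, hp2, hp3⟩ := exists_subgroup t'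
  refine ⟨P, i1, p, hp1, hp2, fun j => ?_⟩
  obtain ⟨e, he⟩ := hp3 j
  exact ⟨e, ψ j, he⟩

/-- **Maximal tori over a disjoint union of bases.** -/
theorem exists_maximalTorus_family {S : Scheme.{u}} {G : Over S} [GrpObj G] {X : J → Scheme.{u}}
    (v : ∀ j, X j ⟶ S) {T : ∀ j, Over (X j)} [∀ j, GrpObj (T j)] (t : ∀ j, T j ⟶ Red.bc (v j) G)
    (h : ∀ j, Red.IsMaximalTorus (t j)) :
    ∃ (P : Over (∐ X)) (_ : GrpObj P) (p : P ⟶ Red.bc (Sigma.desc v) G), Red.IsMaximalTorus p := by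
  obtain ⟨P, i1, p, hp1, hp2, hp3⟩ := exists_subgroup_family v t (fun j => (h j).1) (fun j => (h j).2.1)
  refine ⟨P, i1, p, MT.isMaximalTorus_of_family (fun j => Sigma.ι X j) (fun j => inferInstance) (fun s => ?_) p
    hp1 hp2 fun j => ?_⟩
  · obtain ⟨⟨j, y⟩, rfl⟩ := (sigmaMk X).surjective s
    exact ⟨j, y, (sigmaMk_mk _ _ _).symm⟩
  · obtain ⟨e, ψ, he⟩ := hp3 j
    exact AlgBc.isMaximalTorus_of_arrow e ψ he.symm (h j)

/-- **Maximal tori exist étale locally as soon as every point of the base is in the image of an étale morphism over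
which there is a maximal torus.** -/
theorem hasMaxTorusEtaleLocally_of_forall {S : Scheme.{u}} (G : Over S) [GrpObj G]
    (h : ∀ s : S, ∃ (S' : Scheme.{u}) (f : S' ⟶ S), Etale f ∧ s ∈ Set.range f ∧
      ∃ (T : Over S') (_ : GrpObj T) (i : T ⟶ Red.bc f G), Red.IsMaximalTorus i) :
    SGA3x.HasMaxTorusEtaleLocally G := by
  choose X v hv hs T i1 t ht using h
  obtain ⟨P, i2, p, hp⟩ := exists_maximalTorus_family v t ht
  refine ⟨∐ X, Sigma.desc v, ?_, ?_, P, i2, p, hp⟩
  · exact IsZariskiLocalAtSource.sigmaDesc (P := @Etale) hv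
  · apply Surjective.sigmaDesc_of_union_range_eq_univ
    rw [Set.eq_univ_iff_forall]
    intro s
    exact Set.mem_iUnion.mpr ⟨s, hs s⟩

end

end Groth.Agent.Sga3.H795.DisjGrp
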