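import Groth.Agent.Sga3B.FibreCent
import Groth.Agent.Sga3B.AffHopf
import Groth.Agent.S0412

/-!
# Lifting a split subtorus of a geometric fibre to an étale neighbourhood

`G` smooth and affine over `S`, `s₀ ∈ S`, `i₀ : D(ℤ^n) ⟶ G_{s̄₀}` a monomorphic homomorphism.  Then there are an
étale `v : Spec B ⟶ S` whose image contains `s₀` (and is contained in a given open neighbourhood of `s₀`) and a
monomorphic homomorphism `D(ℤ^n) ⟶ bc v G` over `Spec B`.
-/

set_option autoImplicit false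
universe u
open CategoryTheory MonoidalCategory CartesianMonoidalCategory MonObj GrpObj AlgebraicGeometry
open TensorProduct WithConv

namespace Groth.Agent.Sga3.H795.LiftTorus

open Groth.Agent.Sga3B Groth.Agent.Sga3B.HaarDef Groth.Agent.Sga3B.AffTest Groth.Agent.Sga3B.PtData
open Groth.Agent.Sga3B.PtMor Groth.Agent.Sga3B.TorusNbhd Groth.Agent.Sga3B.TorusRk Groth.Agent.Sga3B.MaxTorusCrit
open Groth.Agent.Sga3B.PtProp Groth.Agent.Sga3B.TorusWt Groth.Agent.Sga3B.TorusLie

noncomputable section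

/-- A split torus over a field valued point extends to a smooth neighbourhood (algebra form). -/
theorem exists_smooth_torus {R C : Type u} [CommRing R] [CommRing C] [HopfAlgebra R C]
    [Algebra.Smooth R C] {K : Type u} [Field K] [Algebra R K] {r : ℕ}
    {F₀ : WithConv (C →ₐ[R] MonoidAlgebra R (Multiplicative (Fin r → ℤ)) ⊗[R] K)} (hF₀ : IsHom F₀)
    (hm : AMono F₀) :
    ∃ (Q : Type u) (_ : CommRing Q) (_ : Algebra R Q)
      (U : WithConv (C →ₐ[R] MonoidAlgebra R (Multiplicative (Fin r → ℤ)) ⊗[R] Q)) (_ : Q →ₐ[R] K),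
      Algebra.Smooth R Q ∧ IsHom U ∧ UnitGen U := by
  obtain ⟨E, _, _, _, ρ, l, hρ1, hρ2, hgen⟩ := ComodGen.exists_comodule (R := R) (C := C)
  obtain ⟨Q, _, _, U, g, hQ, hU, hg⟩ := TorusSmooth.exists_smooth_nbhd (ρ := ρ) ⟨hρ1, hρ2⟩ l hgen hF₀
  obtain ⟨b, hb, hb'⟩ := exists_unitGen_away U g (by rw [hg]; exact hm)
  have hsm : Algebra.Smooth R (Localization.Away b) := by
    have : Algebra.Smooth Q (Localization.Away b) := Algebra.Smooth.of_isLocalization_Away b
    exact Algebra.Smooth.comp R Q _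
  let f : Q →ₐ[R] Localization.Away b := IsScalarTower.toAlgHom R Q (Localization.Away b)
  have hfu : IsUnit (f b) := IsLocalization.Away.algebraMap_isUnit b
  have hgu : ∀ y : Submonoid.powers b, IsUnit (g y) := by
    rintro ⟨_, k, rfl⟩
    show IsUnit (g (b ^ k))
    rw [map_pow]
    exact (isUnit_iff_ne_zero.2 hb).pow k
  exact ⟨Localization.Away b, inferInstance, inferInstance, pushG (HaarDef.T _ f) U,
    IsLocalization.liftAlgHom (M := Submonoid.powers b) (f := g) hgu, hsm, hU.map f, hb' _ f hfu⟩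

/-- The local form: `S` replaced by an affine open neighbourhood of `s₀`. -/
theorem aux {S : Scheme.{u}} (G : Over S) [GrpObj G] [IsAffineHom G.hom] [Smooth G.hom] {R : Type u} [CommRing R]
    (j : Spec (CommRingCat.of R) ⟶ S) [IsOpenImmersion j] (s₀ : S) (hs₀ : s₀ ∈ Set.range j) {r : ℕ}
    (i₀ : Red.DS (Spec (CommRingCat.of (AlgebraicClosure (S.residueField s₀)))) (Fin r → ℤ) ⟶
      Red.geomFibre s₀ G) (hi₀ : IsMonHom i₀) (hm₀ : Mono i₀) :
    ∃ (B : Type u) (_ : CommRing B) (v : Spec (CommRingCat.of B) ⟶ S), Etale v ∧ s₀ ∈ Set.range v ∧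
      Set.range v ⊆ Set.range j ∧
      ∃ (i : Red.DS (Spec (CommRingCat.of B)) (Fin r → ℤ) ⟶ Red.bc v G), IsMonHom i ∧ Mono i := by
  -- the Hopf algebra
  have hGj : IsAffineHom (Red.bc j G).hom := by
    show IsAffineHom (Limits.pullback.snd _ _)
    infer_instance
  have hGj' : Smooth (Red.bc j G).hom := by
    show Smooth (Limits.pullback.snd _ _)
    infer_instance
  have : IsAffine (Red.bc j G).left := isAffine_left_of_isAffineHom _
  obtain ⟨C, _, _, iC, hiC⟩ := AffHopf.exists_hopf (Red.bc j G)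
  have hsm : Algebra.Smooth R C := AffHopf.smooth_of_iso iC
  have hft : Algebra.FiniteType R C := Algebra.FiniteType.of_finitePresentation
  -- the geometric point
  have hrange : Set.range (Red.geomPt s₀) ⊆ Set.range j := by
    rintro _ ⟨x, rfl⟩
    have : Red.geomPt s₀ x = s₀ := by
      show (Spec.map _ ≫ S.fromSpecResidueField s₀) x = s₀
      rw [Scheme.Hom.comp_apply]
      exact Scheme.fromSpecResidueField_apply _ _
    rw [this]
    exact hs₀
  let φ : R →+* AlgebraicClosure (S.residueField s₀) :=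
    (Spec.preimage (IsOpenImmersion.lift j (Red.geomPt s₀) hrange)).hom
  let : Algebra R (AlgebraicClosure (S.residueField s₀)) := φ.toAlgebra
  have hgeom : Red.geomPt s₀ = q R (AlgebraicClosure (S.residueField s₀)) ≫ j := by
    have h1 : Spec.map (CommRingCat.ofHom φ) = IsOpenImmersion.lift j (Red.geomPt s₀) hrange := Spec.map_preimage _
    show _ = Spec.map (CommRingCat.ofHom φ) ≫ j
    rw [h1, IsOpenImmersion.lift_fac]
  obtain ⟨PK⟩ := AffHopf.exists_ptStr G j iC (AlgebraicClosure (S.residueField s₀)) (Red.geomPt s₀) hgeom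
  have hGK : IsAffineHom (Red.geomFibre s₀ G).hom := by
    show IsAffineHom (Limits.pullback.snd _ _)
    infer_instance
  have : IsAffine (Red.geomFibre s₀ G).left := isAffine_left_of_isAffineHom _
  have : IsAffine (Red.DS (Spec (CommRingCat.of (AlgebraicClosure (S.residueField s₀)))) (Fin r → ℤ)).left :=
    isAffine_left_of_isAffineHom _
  obtain ⟨F₀, hc₀⟩ := exists_corr (dsStr R (AlgebraicClosure (S.residueField s₀)) (Fin r → ℤ)) PK i₀
  have hF₀ : IsHom F₀ := isHom_of_isMonHom hc₀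
  have hmF₀ : AMono F₀ := amono_of_mono hc₀
  obtain ⟨Q, _, _, U, g, hQ, hU, hUg⟩ := exists_smooth_torus hF₀ hmF₀
  -- étale section
  have hQsm : Smooth (q R Q) := by
    rw [HasRingHomProperty.Spec_iff (P := @Smooth)]
    exact RingHom.smooth_algebraMap.2 hQ
  have hfs : Smooth (q R Q ≫ j) := inferInstance
  have hs : s₀ ∈ Set.range (q R Q ≫ j) := by
    let k : Spec (CommRingCat.of (AlgebraicClosure (S.residueField s₀))) ⟶ Spec (CommRingCat.of Q) :=
      Spec.map (CommRingCat.ofHom g.toRingHom)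
    have hk : k ≫ q R Q = q R (AlgebraicClosure (S.residueField s₀)) := by
      show Spec.map _ ≫ Spec.map _ = Spec.map _
      rw [← Spec.map_comp, ← CommRingCat.ofHom_comp]
      congr 2
      exact g.comp_algebraMap
    obtain ⟨x⟩ : Nonempty (Spec (CommRingCat.of (AlgebraicClosure (S.residueField s₀)))) := inferInstance
    refine ⟨k x, ?_⟩
    rw [← Scheme.Hom.comp_apply, ← Category.assoc, hk, ← hgeom]
    show (Spec.map _ ≫ S.fromSpecResidueField s₀) x = s₀
    rw [Scheme.Hom.comp_apply]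
    exact Scheme.fromSpecResidueField_apply _ _
  obtain ⟨S', g', s', hg'e, hg's, h, hh⟩ := S0412.result (q R Q ≫ j) s₀ hs
  -- affine neighbourhood of `s'`
  obtain ⟨V, hV, hs'V, -⟩ := exists_isAffineOpen_mem_and_subset (x := s') (U := ⊤) trivial
  let B : Type u := Γ(S', V)
  let w : Spec (CommRingCat.of B) ⟶ S' := hV.fromSpec
  have hw : IsOpenImmersion w := inferInstanceAs (IsOpenImmersion hV.fromSpec)
  have hs'w : s' ∈ Set.range w := by
    have : Set.range hV.fromSpec = (V : Set S') := hV.range_fromSpec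
    exact this ▸ hs'V
  let ψ : Q →+* B := (Spec.preimage (w ≫ h)).hom
  have hψ : Spec.map (CommRingCat.ofHom ψ) = w ≫ h := Spec.map_preimage _
  let : Algebra Q B := ψ.toAlgebra
  let : Algebra R B := (ψ.comp (algebraMap R Q)).toAlgebra
  have : IsScalarTower R Q B := IsScalarTower.of_algebraMap_eq fun _ => rfl
  have hv : w ≫ g' = q R B ≫ j := by
    rw [← hh, ← Category.assoc, ← hψ, ← Category.assoc]
    congr 1
    show Spec.map _ ≫ Spec.map _ = Spec.map _
    rw [← Spec.map_comp, ← CommRingCat.ofHom_comp]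
  obtain ⟨PB⟩ := AffHopf.exists_ptStr G j iC B (w ≫ g') hv
  have hGB : IsAffineHom (Red.bc (w ≫ g') G).hom := by
    show IsAffineHom (Limits.pullback.snd _ _)
    infer_instance
  have : IsAffine (Red.bc (w ≫ g') G).left := isAffine_left_of_isAffineHom _
  have : IsAffine (Red.DS (Spec (CommRingCat.of B)) (Fin r → ℤ)).left := isAffine_left_of_isAffineHom _
  let F := pushG (HaarDef.T (MonoidAlgebra R (Multiplicative (Fin r → ℤ))) (IsScalarTower.toAlgHom R Q B)) U
  have hF : IsHom F := hU.map _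
  have hFg : UnitGen F := hUg.map _
  obtain ⟨i, hi⟩ := exists_mor (dsStr R B (Fin r → ℤ)) PB F
  refine ⟨B, inferInstance, w ≫ g', inferInstance, ?_, ?_, i, isMonHom_of_isHom hi hF,
    mono_of_amono hi (hFg.amono hF)⟩
  · obtain ⟨y, hy⟩ := hs'w
    refine ⟨y, ?_⟩
    show (w ≫ g') y = s₀
    rw [Scheme.Hom.comp_apply, hy, hg's]
  · rw [hv]
    rintro _ ⟨y, rfl⟩
    exact ⟨q R B y, (Scheme.Hom.comp_apply _ _ _).symm⟩

/-- **A split subtorus of a geometric fibre lifts to an étale neighbourhood.** -/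
theorem exists_etale_torus {S : Scheme.{u}} (G : Over S) [GrpObj G] [IsAffineHom G.hom] [Smooth G.hom]
    (s₀ : S) (W : S.Opens) (hW : s₀ ∈ W) {n : ℕ}
    {T₀ : Over (Spec (CommRingCat.of (AlgebraicClosure (S.residueField s₀))))} [GrpObj T₀]
    (i₀ : T₀ ⟶ Red.geomFibre s₀ G) [IsMonHom i₀] [Mono i₀]
    (hT₀ : Red.IsSplitTorusWith (Fin n → ℤ) T₀) :
    ∃ (B : Type u) (_ : CommRing B) (v : Spec (CommRingCat.of B) ⟶ S), Etale v ∧ s₀ ∈ Set.range v ∧
      Set.range v ⊆ (W : Set S) ∧
      ∃ (i : Red.DS (Spec (CommRingCat.of B)) (Fin n → ℤ) ⟶ Red.bc v G), IsMonHom i ∧ Mono i := by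
  obtain ⟨e⟩ := hT₀
  obtain ⟨V, hV, hs₀V, hVW⟩ := exists_isAffineOpen_mem_and_subset (x := s₀) (U := W) hW
  have hr : Set.range hV.fromSpec = (V : Set S) := hV.range_fromSpec
  let e' : T₀ ≅ Red.DS _ (Fin n → ℤ) := (Grp.forget _).mapIso e
  have he' : IsMonHom e'.inv := e.inv.hom.isMonHom_hom
  obtain ⟨B, i1, v, h1, h2, h3, i, h4, h5⟩ := aux (R := Γ(S, V)) G
    (hV.fromSpec : Spec (CommRingCat.of Γ(S, V)) ⟶ S) s₀ (hr ▸ hs₀V) (e'.inv ≫ i₀) inferInstance inferInstance
  exact ⟨B, i1, v, h1, h2, h3.trans (hr.subset.trans hVW), i, h4, h5⟩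

end

end Groth.Agent.Sga3.H795.LiftTorus
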