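import Groth.Agent.Sga3.H795.MaxTorDim
import Groth.Agent.Sga3.H795.LiftTorus
import Groth.Agent.Sga3.H795.DisjGrp
import Groth.Agent.Sga3B.TorusEtSplit

/-!
# Reductive rank of geometric fibres and étale local maximal tori

`G` affine and smooth over `S`.  `isMaximalTorus_of_rank`: a split subtorus of rank `n` of a base change `bc v G`, `v` étale,
is a maximal torus if all the geometric fibres of `G` over the image of `v` have reductive rank `n`.
-/

set_option autoImplicit false
universe u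
open CategoryTheory MonoidalCategory CartesianMonoidalCategory MonObj GrpObj AlgebraicGeometry

namespace Groth.Agent.Sga3.H795.RankEt

open Groth.Agent.Sga3B Groth.Agent.Sga3B.RedIso Groth.Agent.Sga3B.BcNat Groth.Agent.Sga3B.ResAlg
  Groth.Agent.Sga3B.AlgBc Groth.Agent.Sga3.H795.DisjGrp Groth.Agent.Sga3.H795.MaxTorDim

noncomputable section

variable {S S' : Scheme.{u}}

/-- Reductive ranks are natural numbers. -/
theorem exists_nat_of_hasRedRank {G : Over S} [GrpObj G] {s : S} {r : WithBot ℕ∞}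
    (h : SGA3x.HasRedRank G s r) : ∃ n : ℕ, r = n ∧
      ∃ (T : Over (Spec (CommRingCat.of (AlgebraicClosure (S.residueField s))))) (_ : GrpObj T)
        (i : T ⟶ Red.geomFibre s G), Red.IsMaximalTorus i ∧ Red.IsSplitTorusWith (Fin n → ℤ) T := by
  obtain ⟨T, i1, i, hi, hd⟩ := h
  obtain ⟨n, hn⟩ := TorusAlgClosed.exists_isSplitTorusWith hi.2.2.1
  exact ⟨n, by rw [← hd, topologicalKrullDim_of_split hn], T, i1, i, hi, hn⟩

theorem hasRedRank_of_split {G : Over S} [GrpObj G] {s : S} {n : ℕ}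
    {T : Over (Spec (CommRingCat.of (AlgebraicClosure (S.residueField s))))} [GrpObj T]
    (i : T ⟶ Red.geomFibre s G) (hi : Red.IsMaximalTorus i) (hn : Red.IsSplitTorusWith (Fin n → ℤ) T) :
    SGA3x.HasRedRank G s n := ⟨T, inferInstance, i, hi, topologicalKrullDim_of_split hn⟩

/-- Reductive ranks and base change with algebraic residue field extensions (e.g. étale). -/
theorem hasRedRank_bc_iff (f : S' ⟶ S) [AlgRes f] (G : Over S) [GrpObj G] (s' : S') (n : WithBot ℕ∞) :
    SGA3x.HasRedRank (Red.bc f G) s' n ↔ SGA3x.HasRedRank G (f s') n := by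
  obtain ⟨θ, hθ, hh⟩ := exists_iso_geomPt f s'
  constructor
  · intro h
    obtain ⟨n, rfl, T, i1, i, hi, hn⟩ := exists_nat_of_hasRedRank h
    have h1 := isMaximalTorus_bc (CategoryTheory.inv θ) hi
    have h2 : Red.IsMaximalTorus ((Over.pullback (CategoryTheory.inv θ)).map i ≫
        (und (BcIso.bcMapIso (CategoryTheory.inv θ) (fibIso hh G) ≪≫ unbcIso' θ (Red.geomFibre (f s') G))).hom) :=
      isMaximalTorus_of_arrow (Iso.refl _)
        (BcIso.bcMapIso (CategoryTheory.inv θ) (fibIso hh G) ≪≫ unbcIso' θ (Red.geomFibre (f s') G))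
        (by exact (Category.id_comp _).symm) h1
    exact hasRedRank_of_split _ h2 (TorusAlgClosed.isSplitTorusWith_bc _ hn)
  · intro h
    obtain ⟨n, rfl, T, i1, i, hi, hn⟩ := exists_nat_of_hasRedRank h
    have h1 := isMaximalTorus_bc θ hi
    have h2 : Red.IsMaximalTorus ((Over.pullback θ).map i ≫ (und (fibIso hh G).symm).hom) :=
      isMaximalTorus_of_arrow (Iso.refl _) (fibIso hh G).symm (by exact (Category.id_comp _).symm) h1
    exact hasRedRank_of_split _ h2 (TorusAlgClosed.isSplitTorusWith_bc _ hn)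

/-- A subtorus whose geometric fibres have the reductive rank of the ambient group is a maximal torus. -/
theorem isMaximalTorus_of_rank {G : Over S} [GrpObj G] [IsAffineHom G.hom] [LocallyOfFiniteType G.hom]
    {T : Over S} [GrpObj T] (i : T ⟶ G) [IsMonHom i] [Mono i] {n : ℕ} (hT : Red.IsSplitTorusWith (Fin n → ℤ) T)
    (h : ∀ s : S, SGA3x.HasRedRank G s n) : Red.IsMaximalTorus i := by
  refine ⟨inferInstance, inferInstance, RG.BrTorus.isTorus_of_isSplitTorusWith hT, fun s => ?_⟩
  obtain ⟨T₁, i1, i₁, hi₁, hd₁⟩ := h s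
  have haff : IsAffineHom (Red.geomFibre s G).hom := by
    show IsAffineHom (Limits.pullback.snd _ _)
    infer_instance
  have hlft : LocallyOfFiniteType (Red.geomFibre s G).hom := by
    show LocallyOfFiniteType (Limits.pullback.snd _ _)
    infer_instance
  have : IsAffine (Red.geomFibre s G).left := MaxTorusCrit.isAffine_left_of_isAffineHom _
  have hs := TorusAlgClosed.isSplitTorusWith_bc (Red.geomPt s) hT
  have h3 := isMaximalTorus_of_dim_le (Red.geomFibre s G) i₁ hi₁ ((Over.pullback (Red.geomPt s)).map i)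
    (RG.BrTorus.isTorus_of_isSplitTorusWith hs) (by
      rw [hd₁, topologicalKrullDim_of_split hs])
  exact ((RG.BrMax.isMaximalTorus_iff_abs _).1 h3).2.2.2

/-- **(i) ⟹ (ii)**. -/
theorem hasMaxTorusEtaleLocally (G : Over S) [GrpObj G] [IsAffineHom G.hom] [Smooth G.hom]
    (h : SGA3x.RedRankLocallyConstant G) : SGA3x.HasMaxTorusEtaleLocally G := by
  apply hasMaxTorusEtaleLocally_of_forall
  intro s
  obtain ⟨U, hsU, r, hr⟩ := h s
  obtain ⟨n, rfl, T₀, i1, i₀, hi₀, hn⟩ := exists_nat_of_hasRedRank (hr s hsU)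
  have hmon := hi₀.1
  have hmono := hi₀.2.1
  obtain ⟨B, _, v, hv, hsv, hvU, i, hi1, hi2⟩ := LiftTorus.exists_etale_torus G s U hsU i₀ hn
  have haff : IsAffineHom (Red.bc v G).hom := by
    show IsAffineHom (Limits.pullback.snd _ _)
    infer_instance
  have hlft : LocallyOfFiniteType (Red.bc v G).hom := by
    show LocallyOfFiniteType (Limits.pullback.snd _ _)
    infer_instance
  exact ⟨Spec (CommRingCat.of B), v, hv, hsv, Red.DS (Spec (CommRingCat.of B)) (Fin n → ℤ), inferInstance, i,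
    isMaximalTorus_of_rank i ⟨Iso.refl _⟩ fun x => (hasRedRank_bc_iff v G x n).2 (hr (v x) (hvU ⟨x, rfl⟩))⟩

/-- **(ii) ⟹ (i)**, for an arbitrary group scheme. -/
theorem redRankLocallyConstant (G : Over S) [GrpObj G]
    (h : SGA3x.HasMaxTorusEtaleLocally G) : SGA3x.RedRankLocallyConstant G := by
  obtain ⟨S', f, hf, hfs, T, i1, i, hi⟩ := h
  intro s
  obtain ⟨s', rfl⟩ := f.surjective s
  obtain ⟨B, _, v, r, hv, hs'v, hr⟩ := TorusEtSplit.exists_etale_split T hi.2.2.1 s'
  have hvf : Etale (v ≫ f) := inferInstance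
  let U : S.Opens := ⟨Set.range (v ≫ f), (v ≫ f).isOpenMap.isOpen_range⟩
  refine ⟨U, ?_, r, ?_⟩
  · obtain ⟨x, rfl⟩ := hs'v
    exact ⟨x, Scheme.Hom.comp_apply _ _ _⟩
  · rintro _ ⟨x, rfl⟩
    have h1 := isMaximalTorus_bc (Red.geomPt x) (isMaximalTorus_bc v hi)
    have h2 : SGA3x.HasRedRank (Red.bc v (Red.bc f G)) x r :=
      hasRedRank_of_split _ h1 (TorusAlgClosed.isSplitTorusWith_bc _ hr)
    rw [hasRedRank_bc_iff, hasRedRank_bc_iff] at h2
    have h3 : (v ≫ f) x = f (v x) := Scheme.Hom.comp_apply _ _ _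
    rw [h3]
    exact h2

end

end Groth.Agent.Sga3.H795.RankEt
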