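import Groth.Agent.CalgC.DimFT
import Mathlib.Algebra.MonoidAlgebra.Basic
import Mathlib.Algebra.MonoidAlgebra.NoZeroDivisors
import Mathlib.Algebra.Group.UniqueProds.Basic
import Mathlib.RingTheory.FiniteType

/-!
# The dimension of a split torus over a field

`ringKrullDim_torus`: the Krull dimension of `K[ℤ^n]` is `n`.
-/

set_option autoImplicit false

universe u v

namespace Groth.Agent.Sga3.H795.TorusDim

noncomputable section

variable (K : Type u) [Field K] (n : ℕ)

/-- The group algebra of `ℤ^n`. -/
abbrev KZ : Type u := MonoidAlgebra K (Multiplicative (Fin n → ℤ))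

/-- the coordinate characters -/
def X (i : Fin n) : KZ K n := MonoidAlgebra.single (Multiplicative.ofAdd (Pi.single i (1 : ℤ))) 1

/-- exponents -/
def expo (m : Fin n →₀ ℕ) : Multiplicative (Fin n → ℤ) := Multiplicative.ofAdd fun i => (m i : ℤ)

lemma expo_injective : Function.Injective (expo n) := by
  intro a b h
  ext i
  have h1 := congrFun (Multiplicative.ofAdd.injective h) i
  exact_mod_cast h1

lemma X_pow (i : Fin n) (k : ℕ) :
    X K n i ^ k = MonoidAlgebra.single (Multiplicative.ofAdd (Pi.single i (k : ℤ))) 1 := by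
  rw [X, MonoidAlgebra.single_pow, one_pow]
  congr 1
  rw [← ofAdd_nsmul]
  congr 1
  ext j
  by_cases h : j = i
  · subst h; simp
  · simp [h]

lemma prod_X_pow (m : Fin n →₀ ℕ) :
    ∏ i, X K n i ^ m i = MonoidAlgebra.single (expo n m) 1 := by
  simp_rw [X_pow]
  have h : ∀ s : Finset (Fin n), ∏ i ∈ s, (MonoidAlgebra.single (Multiplicative.ofAdd
      (Pi.single i (m i : ℤ) : Fin n → ℤ)) 1 : KZ K n) =
      MonoidAlgebra.single (Multiplicative.ofAdd (∑ i ∈ s, (Pi.single i (m i : ℤ) : Fin n → ℤ))) 1 := by
    classical
    intro s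
    induction s using Finset.induction_on with
    | empty => rfl
    | insert a s ha ih =>
      rw [Finset.prod_insert ha, ih, Finset.sum_insert ha, MonoidAlgebra.single_mul_single, mul_one]
      rfl
  rw [h]
  congr 2
  ext j
  rw [Finset.sum_apply, Finset.sum_eq_single j]
  · simp
  · intro b _ hb
    exact Pi.single_eq_of_ne (Ne.symm hb) _
  · simp

lemma aeval_X_eq (p : MvPolynomial (Fin n) K) :
    MvPolynomial.aeval (X K n) p = ∑ m ∈ p.support, p.coeff m • MonoidAlgebra.single (expo n m) (1 : K) := by
  conv_lhs => rw [p.as_sum]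
  rw [map_sum]
  refine Finset.sum_congr rfl fun m _ => ?_
  rw [MvPolynomial.aeval_monomial, Algebra.smul_def]
  congr 1
  rw [← prod_X_pow, Finsupp.prod_fintype]
  intro i
  rw [pow_zero]

lemma aeval_X_injective : Function.Injective (MvPolynomial.aeval (R := K) (X K n)) := by
  rw [injective_iff_map_eq_zero]
  intro p hp
  rw [aeval_X_eq] at hp
  ext m
  rw [MvPolynomial.coeff_zero]
  by_cases hm : m ∈ p.support
  · have h1 := congrArg (fun x : KZ K n => x.coeff (expo n m)) hp
    simp only [MonoidAlgebra.coeff_zero] at h1
    have h2 : (∑ m' ∈ p.support, p.coeff m' • (MonoidAlgebra.single (expo n m') (1 : K) : KZ K n)).coeff (expo n m) =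
        ∑ m' ∈ p.support, p.coeff m' * (MonoidAlgebra.single (expo n m') (1 : K) : KZ K n).coeff (expo n m) := by
      rw [MonoidAlgebra.coeff_sum, Finset.sum_apply']
      refine Finset.sum_congr rfl fun m' _ => ?_
      rw [MonoidAlgebra.coeff_smul]
      rfl
    rw [h2, Finset.sum_eq_single m] at h1
    · simpa using h1
    · intro b _ hb
      rw [MonoidAlgebra.coeff_single, Finsupp.single_eq_of_ne (fun h => hb (expo_injective n h).symm), mul_zero]
    · intro h
      exact absurd hm h
  · exact MvPolynomial.notMem_support_iff.1 hm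

/-- `K[ℤ^n]` is a domain. -/
instance isDomain : IsDomain (KZ K n) := inferInstance

instance finiteType : Algebra.FiniteType K (KZ K n) := by
  have : Monoid.FG (Multiplicative (Fin n → ℤ)) := by
    rw [← AddMonoid.fg_iff_mul_fg]
    have : AddGroup.FG (Fin n → ℤ) := Module.Finite.iff_addGroup_fg.1 inferInstance
    exact AddGroup.fg_iff_addMonoid_fg.1 this
  infer_instance

theorem trdeg_torus : Algebra.trdeg K (KZ K n) = n := by
  let φ : MvPolynomial (Fin n) K →ₐ[K] KZ K n := MvPolynomial.aeval (X K n)
  let : Algebra (MvPolynomial (Fin n) K) (KZ K n) := φ.toRingHom.toAlgebra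
  have htower : IsScalarTower K (MvPolynomial (Fin n) K) (KZ K n) :=
    IsScalarTower.of_algebraMap_eq (fun x => (φ.commutes x).symm)
  have hfs : FaithfulSMul (MvPolynomial (Fin n) K) (KZ K n) :=
    (faithfulSMul_iff_algebraMap_injective _ _).mpr (aeval_X_injective K n)
  have halg : Algebra.IsAlgebraic (MvPolynomial (Fin n) K) (KZ K n) := by
    constructor
    intro x
    induction x using MonoidAlgebra.induction_linear with
    | zero => exact isAlgebraic_zero
    | add f g hf hg => exact hf.add hg
    | single m c =>
      -- `m = a - b`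
      let a : Fin n →₀ ℕ := Finsupp.equivFunOnFinite.symm fun i => (Multiplicative.toAdd m i).toNat
      let b : Fin n →₀ ℕ := Finsupp.equivFunOnFinite.symm fun i => (-(Multiplicative.toAdd m i)).toNat
      have hab : expo n b * m = expo n a := by
        apply Multiplicative.toAdd.injective
        ext i
        change ((-(Multiplicative.toAdd m i)).toNat : ℤ) + Multiplicative.toAdd m i = ((Multiplicative.toAdd m i).toNat : ℤ)
        omega
      have hφ : ∀ d : Fin n →₀ ℕ, φ (MvPolynomial.monomial d 1) = MonoidAlgebra.single (expo n d) 1 := by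
        intro d
        change MvPolynomial.aeval (X K n) _ = _
        rw [MvPolynomial.aeval_monomial, map_one, one_mul, Finsupp.prod_fintype _ _ (fun i => pow_zero _), prod_X_pow]
      have h1 : algebraMap (MvPolynomial (Fin n) K) (KZ K n) (MvPolynomial.monomial b 1) *
          MonoidAlgebra.single m c = algebraMap (MvPolynomial (Fin n) K) (KZ K n) (MvPolynomial.monomial a c) := by
        change φ _ * _ = φ _
        have h2 : MvPolynomial.monomial a c = c • MvPolynomial.monomial a (1 : K) := by
          rw [MvPolynomial.smul_monomial, smul_eq_mul, mul_one]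
        rw [hφ, h2, map_smul, hφ, MonoidAlgebra.single_mul_single, hab, one_mul, MonoidAlgebra.smul_single,
          smul_eq_mul, mul_one]
      refine ⟨Polynomial.C (MvPolynomial.monomial b 1) * Polynomial.X - Polynomial.C (MvPolynomial.monomial a c), ?_, ?_⟩
      · intro h0
        have h3 := congrArg (fun p => Polynomial.coeff p 1) h0
        simp only [Polynomial.coeff_sub, Polynomial.coeff_C_mul, Polynomial.coeff_X_one, mul_one,
          Polynomial.coeff_C_succ, Polynomial.coeff_zero, sub_zero] at h3
        exact one_ne_zero ((MvPolynomial.monomial_eq_zero).1 h3)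
      · simp only [map_sub, map_mul, Polynomial.aeval_C, Polynomial.aeval_X]
        rw [h1, sub_self]
  have h1 := lift_trdeg_add_eq (R := K) (S := MvPolynomial (Fin n) K) (A := KZ K n)
  have h2 : Algebra.trdeg (MvPolynomial (Fin n) K) (KZ K n) = 0 := trdeg_eq_zero
  rw [h2, MvPolynomial.trdeg_of_isDomain] at h1
  simpa using h1.symm

/-- **The Krull dimension of a split torus of rank `n` over a field is `n`.** -/
theorem ringKrullDim_torus : ringKrullDim (KZ K n) = n := by
  rw [CalgC.DimFT.ringKrullDim_eq_trdeg (k := K) (KZ K n), trdeg_torus]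
  simp

end

end Groth.Agent.Sga3.H795.TorusDim
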