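import Groth.Agent.Sga3B.RG.BrHc2
import Groth.Agent.Sga3B.RG.NonComm
import Groth.Agent.Sga3B.RG.Rel885
import Groth.Agent.Sga3.H795.TorusDim
import Mathlib.Topology.KrullDimension

/-!
# Maximal tori of (possibly non-connected) affine algebraic groups over an algebraically closed field

`K` algebraically closed, `G` an affine group scheme of finite type over `K` (no connectedness, no smoothness).

* `exists_factor_conj`: every subtorus is contained in a conjugate of a given maximal torus;
* `topologicalKrullDim_of_split`: a split torus of rank `n` has dimension `n`;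
* `dim_le_of_isMaximalTorus`: a subtorus has dimension at most that of a maximal torus;
* `isMaximalTorus_of_dim_eq`: a subtorus with the dimension of a maximal torus is maximal.
-/

set_option autoImplicit false

universe u

open CategoryTheory MonoidalCategory CartesianMonoidalCategory MonObj GrpObj AlgebraicGeometry
open Groth.Agent.Books.AffBridge Groth.Agent.Books.AffBridge2
open TensorProduct Coalgebra

namespace Groth.Agent.Sga3.H795.MaxTorDim

open Groth.Agent.Sga3B Groth.Agent.Sga3B.RG Groth.Agent.Sga3B.RG.BrPts Groth.Agent.Sga3B.RG.BrDiag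
  Groth.Agent.Sga3B.RG.BrTorus Groth.Agent.Sga3B.RG.BrImg Groth.Agent.Sga3B.RG.BrHc

noncomputable section

variable {K : Type u} [Field K] [IsAlgClosed K]

/-- Containment up to conjugacy, on points: homomorphism form. -/
theorem exists_hom_of_le {A : Type u} [CommRing A] [HopfAlgebra K A] [Algebra.FiniteType K A]
    {G T T' : Over (Spec (CommRingCat.of K))} [GrpObj G] [GrpObj T] [GrpObj T']
    (e : G ≅ SpecOver K A) [IsMonHom e.hom] (i : T ⟶ G) [IsMonHom i] (i' : T' ⟶ G) [IsMonHom i']
    [Smooth T.hom] (hcl' : IsClosedImmersion (i' ≫ e.hom).left) (g : Pt K A)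
    (hg : (ptsSub (i ≫ e.hom)).map (MulAut.conj g).toMonoidHom ≤ ptsSub (i' ≫ e.hom)) :
    ∃ f : T ⟶ T', f ≫ i' = conjHom (ptEquiv K A g ≫ e.inv) i := by
  have hinv : IsMonHom e.inv := inferInstance
  set γ : 𝟙_ (Over (Spec (CommRingCat.of K))) ⟶ G := ptEquiv K A g ≫ e.inv with hγ'
  have hγ : γ ≫ e.hom = ptEquiv K A g := by
    simp only [γ, Category.assoc, Iso.inv_hom_id, Category.comp_id]
  have hkey : ∀ {X : Over (Spec (CommRingCat.of K))} (x : X ⟶ G),
      ((toUnit X ≫ γ) * x * (toUnit X ≫ γ)⁻¹) ≫ e.hom =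
        (toUnit X ≫ ptEquiv K A g) * (x ≫ e.hom) * (toUnit X ≫ ptEquiv K A g)⁻¹ := by
    intro X x
    rw [MonObj.mul_comp, MonObj.mul_comp, GrpObj.inv_comp, Category.assoc, hγ]
  have h3 : toUnit (𝟙_ (Over (Spec (CommRingCat.of K)))) ≫ ptEquiv K A g = ptEquiv K A g := by
    rw [toUnit_unique (toUnit (𝟙_ (Over (Spec (CommRingCat.of K))))) (𝟙 _), Category.id_comp]
  obtain ⟨f, hf⟩ := exists_factor_of_le (K := K) (conjHom γ i ≫ e.hom) (i' ≫ e.hom) (by
    rintro x ⟨t, ht⟩
    apply hg
    refine ⟨g⁻¹ * x * g, ⟨t, ?_⟩, ?_⟩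
    · rw [← Category.assoc, comp_conjHom, hkey, h3] at ht
      rw [map_mul, map_mul, ← ht, map_inv, Category.assoc]
      group
    · change g * (g⁻¹ * x * g) * g⁻¹ = x
      group)
  exact ⟨f, by rw [← cancel_mono e.hom, Category.assoc, hf]⟩

omit [IsAlgClosed K] in
lemma isCl_top {A : Type u} [CommRing A] [HopfAlgebra K A] :
    IsCl ((⊤ : Subgroup (Pt K A)) : Set (Pt K A)) := fun x _ => Subgroup.mem_top x

/-- **Every subtorus is contained in a conjugate of a given maximal torus.** -/
theorem exists_factor_conj (G : Over (Spec (CommRingCat.of K))) [GrpObj G] [IsAffine G.left]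
    [LocallyOfFiniteType G.hom] {T T' : Over (Spec (CommRingCat.of K))} [GrpObj T] [GrpObj T']
    (i : T ⟶ G) (hi : Red.IsMaximalTorus i) (j : T' ⟶ G) [IsMonHom j] [Mono j]
    (hT' : Red.IsTorus T') :
    ∃ (γ : 𝟙_ (Over (Spec (CommRingCat.of K))) ⟶ G) (f : T' ⟶ T), f ≫ conjHom γ i = j := by
  have hmh := hi.1
  have hmo := hi.2.1
  obtain ⟨A, _, _, e, he, hft⟩ := exists_hopf_ft G
  have hinv : IsMonHom e.inv := inferInstance
  have h1 := BrMax.isMaxTorusSub_of_isMaximalTorus i e hi
  have h2 : IsTorusSub (ptsSub (j ≫ e.hom)) := isTorusSub_ptsSub (j ≫ e.hom) hT'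
  obtain ⟨T'', hmax, hle⟩ := h2.exists_isMaxTorusSub
  obtain ⟨g, -, hg⟩ := ConjTori.exists_conj_of_le_closed (H := ⊤) isCl_top hmax.1 le_top
    (fun S hS _ hle => hmax.2 S hS hle) h1.1 le_top (fun S hS _ hle => h1.2 S hS hle)
  have hcl : IsClosedImmersion (i ≫ e.hom).left := isClosedImmersion_of_torus _ hi.2.2.1
  have := TorusAlgClosed.smooth_of_isTorus hT'
  obtain ⟨f, hf⟩ := exists_hom_of_le e j i hcl g (by
    rw [← hg]
    exact Subgroup.map_mono hle)
  refine ⟨(ptEquiv K A g ≫ e.inv)⁻¹, f, ?_⟩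
  rw [comp_conjHom', hf, conjHom_inv_conjHom]

section dim

omit [IsAlgClosed K] in
lemma topologicalKrullDim_specOver (A : Type u) [CommRing A] [Algebra K A] :
    topologicalKrullDim ↥(SpecOver K A).left = ringKrullDim A :=
  PrimeSpectrum.topologicalKrullDim_eq_ringKrullDim A

lemma topologicalKrullDim_of_iso {S : Scheme.{u}} {X Y : Over S} (e : X ≅ Y) :
    topologicalKrullDim ↥X.left = topologicalKrullDim ↥Y.left := by
  have : IsIso e.hom.left := inferInstanceAs (IsIso ((Over.forget _).map e.hom))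
  exact IsHomeomorph.topologicalKrullDim_eq _ (Scheme.homeoOfIso (asIso e.hom.left)).isHomeomorph

omit [IsAlgClosed K] in
/-- A split torus of rank `n` over a field has dimension `n`. -/
theorem topologicalKrullDim_of_split {T : Over (Spec (CommRingCat.of K))} [GrpObj T] {n : ℕ}
    (h : Red.IsSplitTorusWith (Fin n → ℤ) T) : topologicalKrullDim ↥T.left = n := by
  obtain ⟨e, he⟩ := isSplitTorusWith_iff.1 h
  rw [topologicalKrullDim_of_iso e, topologicalKrullDim_specOver]
  exact TorusDim.ringKrullDim_torus K n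

/-- Homomorphic monomorphisms of tori which do not decrease the dimension are isomorphisms. -/
theorem isIso_of_dim_le {T T' : Over (Spec (CommRingCat.of K))} [GrpObj T] [GrpObj T']
    (hT : Red.IsTorus T) (hT' : Red.IsTorus T') (f : T ⟶ T') [IsMonHom f] [Mono f]
    (hd : topologicalKrullDim ↥T'.left ≤ topologicalKrullDim ↥T.left) : IsIso f := by
  obtain ⟨n', e', he'⟩ := isTorus_iff.1 hT'
  have he'2 : IsMonHom (f ≫ e'.hom) := inferInstance
  obtain ⟨n, π, e, he, hs, hj⟩ := exists_surjective_of_torus (f ≫ e'.hom) hT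
  have hn : n' ≤ n := by
    rw [topologicalKrullDim_of_iso e, topologicalKrullDim_of_iso e', topologicalKrullDim_specOver,
      topologicalKrullDim_specOver] at hd
    change ringKrullDim (TorusDim.KZ K n') ≤ ringKrullDim (TorusDim.KZ K n) at hd
    rw [TorusDim.ringKrullDim_torus, TorusDim.ringKrullDim_torus] at hd
    exact_mod_cast hd
  let p : KZ K n' →+* KZ K n := (π : KZ K n' →ₐ[K] KZ K n).toRingHom
  have hps : Function.Surjective p := hs
  have hinj : Function.Injective p := by
    rw [RingHom.injective_iff_ker_eq_bot]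
    by_contra hne
    have : IsDomain (KZ K n') := TorusDim.isDomain K n'
    have : IsDomain (KZ K n) := TorusDim.isDomain K n
    have h1 := NC.ringKrullDim_quotient_succ_le (P := (⊥ : Ideal (KZ K n'))) (Q := RingHom.ker p)
      (bot_lt_iff_ne_bot.2 hne)
    have h2 : ringKrullDim (KZ K n' ⧸ (⊥ : Ideal (KZ K n'))) ≤ ringKrullDim (KZ K n') :=
      ringKrullDim_quotient_le _
    have h3 : ringKrullDim (KZ K n' ⧸ RingHom.ker p) = ringKrullDim (KZ K n) :=
      ringKrullDim_eq_of_ringEquiv (RingHom.quotientKerEquivOfSurjective hps)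
    have h4 := h1.trans h2
    rw [h3] at h4
    change ringKrullDim (TorusDim.KZ K n) + 1 ≤ ringKrullDim (TorusDim.KZ K n') at h4
    rw [TorusDim.ringKrullDim_torus, TorusDim.ringKrullDim_torus] at h4
    have h5 : n + 1 ≤ n' := by exact_mod_cast h4
    omega
  have h6 : IsIso (CommRingCat.ofHom p) := by
    rw [ConcreteCategory.isIso_iff_bijective]
    exact ⟨hinj, hps⟩
  have h7 : IsIso (specMap K (π : KZ K n' →ₐ[K] KZ K n)).left := by
    rw [specMap_left]
    change IsIso (Spec.map (CommRingCat.ofHom p))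
    infer_instance
  have h7' : IsIso ((Over.forget _).map (specMap K (π : KZ K n' →ₐ[K] KZ K n))) := h7
  have h8 : IsIso (specMap K (π : KZ K n' →ₐ[K] KZ K n)) :=
    isIso_of_reflects_iso _ (Over.forget _)
  have h9 : IsIso (f ≫ e'.hom) := by
    rw [← hj]
    infer_instance
  exact IsIso.of_isIso_comp_right f e'.hom

/-- A subtorus is of dimension at most that of the bigger torus. -/
theorem dim_le_of_mono {T T' : Over (Spec (CommRingCat.of K))} [GrpObj T] [GrpObj T']
    (hT : Red.IsTorus T) (hT' : Red.IsTorus T') (f : T ⟶ T') [IsMonHom f] [Mono f] :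
    topologicalKrullDim ↥T.left ≤ topologicalKrullDim ↥T'.left := by
  rcases le_total (topologicalKrullDim ↥T.left) (topologicalKrullDim ↥T'.left) with h | h
  · exact h
  · have := isIso_of_dim_le hT hT' f h
    exact (topologicalKrullDim_of_iso (asIso f)).le

end dim

section main

variable (G : Over (Spec (CommRingCat.of K))) [GrpObj G] [IsAffine G.left]
    [LocallyOfFiniteType G.hom] {T T' : Over (Spec (CommRingCat.of K))} [GrpObj T] [GrpObj T']

lemma isMonHom_of_comp_mono {S : Scheme.{u}} {X Y Z : Over S} [GrpObj X] [GrpObj Y] [GrpObj Z]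
    (f : X ⟶ Y) (j : Y ⟶ Z) [IsMonHom j] [Mono j] (h : IsMonHom (f ≫ j)) : IsMonHom f := by
  refine Pts.isMonHom_of_points f fun X x y => ?_
  rw [← cancel_mono j, Category.assoc, MonObj.mul_comp, MonObj.mul_comp, Category.assoc,
    Category.assoc]

instance mono_conjHom {S : Scheme.{u}} {T G : Over S} [GrpObj G] (γ : 𝟙_ (Over S) ⟶ G) (i : T ⟶ G)
    [Mono i] : Mono (conjHom γ i) := by
  constructor
  intro X a b hab
  have h1 : conjHom γ (a ≫ i) = conjHom γ (b ≫ i) := by
    rw [← comp_conjHom', ← comp_conjHom', hab]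
  have h2 := congrArg (conjHom γ⁻¹) h1
  rw [conjHom_inv_conjHom, conjHom_inv_conjHom] at h2
  exact (cancel_mono i).1 h2

/-- **A subtorus has dimension at most that of a maximal torus.** -/
theorem dim_le_of_isMaximalTorus (i : T ⟶ G) (hi : Red.IsMaximalTorus i) (j : T' ⟶ G) [IsMonHom j]
    [Mono j] (hT' : Red.IsTorus T') :
    topologicalKrullDim ↥T'.left ≤ topologicalKrullDim ↥T.left := by
  have hmh := hi.1
  have hmo := hi.2.1
  obtain ⟨γ, f, hf⟩ := exists_factor_conj G i hi j hT'
  have h1 : Mono (f ≫ conjHom γ i) := by rw [hf]; infer_instance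
  have h2 : Mono f := mono_of_mono f (conjHom γ i)
  have h3 : IsMonHom (f ≫ conjHom γ i) := by rw [hf]; infer_instance
  have h4 : IsMonHom f := isMonHom_of_comp_mono f (conjHom γ i) h3
  exact dim_le_of_mono hT' hi.2.2.1 f

/-- **A subtorus with the dimension of a maximal torus is maximal.** -/
theorem isMaximalTorus_of_dim_le (i : T ⟶ G) (hi : Red.IsMaximalTorus i) (j : T' ⟶ G) [IsMonHom j]
    [Mono j] (hT' : Red.IsTorus T')
    (hd : topologicalKrullDim ↥T.left ≤ topologicalKrullDim ↥T'.left) : Red.IsMaximalTorus j := by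
  rw [BrMax.isMaximalTorus_iff_abs]
  refine ⟨inferInstance, inferInstance, hT', fun T'' _ j' _ _ f hT'' hf => ?_⟩
  have h1 := dim_le_of_isMaximalTorus G i hi j' hT''
  have h2 : Mono (f ≫ j') := by rw [hf]; infer_instance
  have h3 : Mono f := mono_of_mono f j'
  have h4 : IsMonHom (f ≫ j') := by rw [hf]; infer_instance
  have h5 : IsMonHom f := isMonHom_of_comp_mono f j' h4
  exact isIso_of_dim_le hT' hT'' f (h1.trans hd)

/-- **Any two maximal tori have the same dimension.** -/
theorem dim_eq_of_isMaximalTorus (i : T ⟶ G) (hi : Red.IsMaximalTorus i) (j : T' ⟶ G)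
    (hj : Red.IsMaximalTorus j) :
    topologicalKrullDim ↥T.left = topologicalKrullDim ↥T'.left := by
  have h1 := hi.1
  have h2 := hi.2.1
  have h3 := hj.1
  have h4 := hj.2.1
  exact le_antisymm (dim_le_of_isMaximalTorus G j hj i hi.2.2.1)
    (dim_le_of_isMaximalTorus G i hi j hj.2.2.1)

end main

end

end Groth.Agent.Sga3.H795.MaxTorDim
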